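import Mathlib

/-!
# Sections of a colimit of presheafed spaces

Over an open `U`, the sections of a colimit of presheafed spaces of rings are the compatible
families of sections over the inverse images of `U`.
-/

universe u

open CategoryTheory CategoryTheory.Limits AlgebraicGeometry Opposite TopologicalSpace

namespace GrothLib.RingedPush4

variable {J : Type} [SmallCategory J]
variable {F : J ⥤ PresheafedSpace.{_, _, u} CommRingCat.{u}}

/-- A compatible family of sections of the cocone `c` over `U`. -/
def IsCompatible (c : Cocone F) (U : Opens c.pt.carrier)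
    (s : ∀ j, (F.obj j).presheaf.obj (op ((Opens.map (c.ι.app j).base).obj U))) : Prop :=
  ∀ (j k : J) (f : j ⟶ k),
    (F.obj j).presheaf.map (eqToHom (by rw [← c.w f, PresheafedSpace.comp_base]; rfl))
      ((F.map f).c.app _ (s k)) = s j

/-- Sections are the compatible families. -/
def HasSections (c : Cocone F) : Prop :=
  ∀ (U : Opens c.pt.carrier) (s : ∀ j, (F.obj j).presheaf.obj (op ((Opens.map (c.ι.app j).base).obj U))),
    IsCompatible c U s → ∃! x : c.pt.presheaf.obj (op U), ∀ j, (c.ι.app j).c.app (op U) x = s j

theorem hasSections_colimit : HasSections (colimit.cocone F) := by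
  intro U s hs
  let D := PresheafedSpace.componentwiseDiagram F U
  let e := PresheafedSpace.colimitPresheafObjIsoComponentwiseLimit F U
  have hπ : ∀ (j : J) (x), limit.π D (op j) (e.hom x) = (colimit.ι F j).c.app (op U) x := fun j x =>
    congrArg (fun g => g x) (PresheafedSpace.colimitPresheafObjIsoComponentwiseLimit_hom_π F U j)
  have hl := isLimitOfPreserves (CategoryTheory.forget CommRingCat.{u}) (limit.isLimit D)
  obtain ⟨x, hx, huniq⟩ :=
    (Types.isLimit_iff ((CategoryTheory.forget CommRingCat.{u}).mapCone (limit.cone D))).mp ⟨hl⟩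
      (fun j => s j.unop) (by
        intro j k f
        exact hs k.unop j.unop f.unop)
  refine ⟨e.inv x, fun j => ?_, fun y hy => ?_⟩
  · refine (hπ j _).symm.trans (Eq.trans ?_ (hx (op j)))
    rw [show e.hom (e.inv x) = x from congrArg (fun g => g x) e.inv_hom_id]
    rfl
  · have := huniq (e.hom y) fun j => (hπ j.unop y).trans (hy j.unop)
    rw [← this]
    exact (congrArg (fun g => g y) e.hom_inv_id).symm

theorem hasSections_extend {c : Cocone F} (hc : HasSections c)
    {P : PresheafedSpace.{_, _, u} CommRingCat.{u}} (e : c.pt ⟶ P) [IsIso e] :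
    HasSections (c.extend e) := by
  intro U s hs
  have : IsIso e.c := inferInstance
  have : IsIso (e.c.app (op U)) := inferInstance
  obtain ⟨x, hx, huniq⟩ := hc ((Opens.map e.base).obj U) s hs
  let ε := asIso (e.c.app (op U))
  refine ⟨ε.inv x, fun j => ?_, fun y hy => ?_⟩
  · refine Eq.trans ?_ (hx j)
    change (c.ι.app j).c.app _ (ε.hom (ε.inv x)) = _
    rw [show ε.hom (ε.inv x) = x from congrArg (fun g => g x) ε.inv_hom_id]
    rfl
  · rw [← huniq (ε.hom y) fun j => hy j]
    exact (congrArg (fun g => g y) ε.hom_inv_id).symm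

theorem hasSections_of_isColimit (c : Cocone F) (hc : IsColimit c) : HasSections c := by
  have gen : ∀ (c' : Cocone F) (m : colimit F ⟶ c'.pt) [IsIso m],
      ((colimit.cocone F).extend m).ι = c'.ι → HasSections c' := by
    rintro ⟨pt, ι⟩ m _ hι
    have hι : ((colimit.cocone F).extend m).ι = ι := hι
    rw [show ({ pt := pt, ι := ι } : Cocone F) = (colimit.cocone F).extend m by rw [← hι]; rfl]
    exact hasSections_extend hasSections_colimit m
  refine gen c ((colimit.isColimit F).coconePointUniqueUpToIso hc).hom ?_
  ext1
  ext1 j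
  exact (colimit.isColimit F).comp_coconePointUniqueUpToIso_hom hc j

theorem map_id_c {X : PresheafedSpace.{_, _, u} CommRingCat.{u}} (r : X ⟶ X) (hr : r = 𝟙 X)
    (V : Opens X.carrier) (s : X.presheaf.obj (op V))
    (e : op ((Opens.map r.base).obj V) = op V) :
    X.presheaf.map (eqToHom e) (r.c.app (op V) s) = s := by
  subst hr
  change X.presheaf.map (𝟙 (op V)) s = s
  simp

theorem map_eqToHom_eqToHom {X : PresheafedSpace.{_, _, u} CommRingCat.{u}} {U V W : (Opens X.carrier)ᵒᵖ}
    (e : U = V) (e' : V = W) (s : X.presheaf.obj U) :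
    X.presheaf.map (eqToHom e') (X.presheaf.map (eqToHom e) s) = X.presheaf.map (eqToHom (e.trans e')) s := by
  subst e; subst e'; simp

/-- Sections over an open subset of a pushout of presheafed spaces. -/
theorem existsUnique_section {A B C D : PresheafedSpace.{_, _, u} CommRingCat.{u}}
    {f : A ⟶ B} {g : A ⟶ C} {p : B ⟶ D} {q : C ⟶ D} (h : IsPushout f g p q) (U : Opens D.carrier)
    (b : B.presheaf.obj (op ((Opens.map p.base).obj U))) (c : C.presheaf.obj (op ((Opens.map q.base).obj U)))
    (hbc : A.presheaf.map (eqToHom (by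
        have := congrArg PresheafedSpace.Hom.base h.w
        simp only [PresheafedSpace.comp_base] at this
        exact congrArg (fun t => op ((Opens.map t).obj U)) this)) (f.c.app _ b) = g.c.app _ c) :
    ∃! x : D.presheaf.obj (op U), p.c.app (op U) x = b ∧ q.c.app (op U) x = c := by
  have hs := hasSections_of_isColimit h.cocone h.isColimit U
  let a : A.presheaf.obj (op ((Opens.map (h.cocone.ι.app WalkingSpan.zero).base).obj U)) :=
    A.presheaf.map (eqToHom (by rfl)) (f.c.app _ b)
  let s : ∀ j, ((span f g).obj j).presheaf.obj (op ((Opens.map (h.cocone.ι.app j).base).obj U)) :=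
    fun j => match j with
      | none => a
      | some WalkingPair.left => b
      | some WalkingPair.right => c
  have hcompat : IsCompatible h.cocone U s := by
    intro j k φ
    rcases φ with _ | ⟨_ | _⟩
    · exact map_id_c _ ((span f g).map_id j) _ _ _
    · exact congrArg (fun m => A.presheaf.map m (f.c.app _ b)) (Subsingleton.elim _ _)
    · refine Eq.trans (congrArg (fun z => A.presheaf.map (eqToHom _) z) hbc.symm) ?_
      exact map_eqToHom_eqToHom _ _ _
  obtain ⟨x, hx, huniq⟩ := hs s hcompat
  refine ⟨x, ⟨hx WalkingSpan.left, hx WalkingSpan.right⟩, fun y hy => huniq y fun j => ?_⟩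
  match j with
  | some WalkingPair.left => exact hy.1
  | some WalkingPair.right => exact hy.2
  | none =>
    have key : ∀ (r : A ⟶ D) (hr : r = f ≫ p), r.c.app (op U) y =
        A.presheaf.map (eqToHom (by rw [hr, PresheafedSpace.comp_base]; rfl)) (f.c.app _ (p.c.app (op U) y)) := by
      intro r hr; subst hr; simp; rfl
    refine (key (h.cocone.ι.app WalkingSpan.zero) ((h.cocone.w WalkingSpan.Hom.fst).symm)).trans ?_
    exact congrArg (fun z => A.presheaf.map (eqToHom _) (f.c.app _ z)) hy.1

end GrothLib.RingedPush4
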