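import Mathlib
import Groth.Agent.Lib.RingedPush4.Sections

/-! # Sections over an open subset of a scheme which is a pushout of ringed spaces -/

universe u

open CategoryTheory CategoryTheory.Limits AlgebraicGeometry Opposite

namespace GrothLib.RingedPush4

theorem existsUnique_section_scheme {Z X Z' X' : Scheme.{u}} {ι : Z ⟶ X} {q : Z ⟶ Z'} {π : X ⟶ X'} {ι' : Z' ⟶ X'}
    (hpo : IsPushout ((Scheme.forgetToLocallyRingedSpace ⋙ LocallyRingedSpace.forgetToSheafedSpace).map ι) ((Scheme.forgetToLocallyRingedSpace ⋙ LocallyRingedSpace.forgetToSheafedSpace).map q)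
      ((Scheme.forgetToLocallyRingedSpace ⋙ LocallyRingedSpace.forgetToSheafedSpace).map π) ((Scheme.forgetToLocallyRingedSpace ⋙ LocallyRingedSpace.forgetToSheafedSpace).map ι'))
    (hw : ι ≫ π = q ≫ ι') (U : X'.Opens) (b : Γ(X, π ⁻¹ᵁ U)) (c : Γ(Z', ι' ⁻¹ᵁ U))
    (hbc : Z.presheaf.map (eqToHom (show op (ι ⁻¹ᵁ π ⁻¹ᵁ U) = op (q ⁻¹ᵁ ι' ⁻¹ᵁ U) by
      simp only [← Scheme.Hom.comp_preimage, hw])) (ι.app _ b) = q.app _ c) :
    ∃! x : Γ(X', U), π.app U x = b ∧ ι'.app U x = c :=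
  existsUnique_section (hpo.map SheafedSpace.forgetToPresheafedSpace) U b c hbc

end GrothLib.RingedPush4
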