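import Mathlib
import Groth.Prelude.Def_EtMil
import Groth.Agent.Lib.RingedPush4.Scheme
import Groth.Agent.Lib.Milnor.OverBase

/-!
# Sections of a base change of a pinching with flat ingredients are detected on the pieces
-/

universe u

open CategoryTheory CategoryTheory.Limits AlgebraicGeometry TensorProduct

namespace GrothLib.RingedPush4

section Algebra

theorem eq_zero_of_pushouts {R B' B A' A C : Type u} [CommRing R] [CommRing B'] [CommRing B] [CommRing A'] [CommRing A]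
    [Algebra B' B] [Algebra B' A'] [Algebra B A] [Algebra A' A] [Algebra B' A]
    [IsScalarTower B' B A] [IsScalarTower B' A' A]
    [Algebra R B'] [Algebra R B] [Algebra R A'] [Algebra R A]
    [IsScalarTower R B' B] [IsScalarTower R B' A'] [IsScalarTower R B A] [IsScalarTower R A' A]
    [Module.Flat R A] (hsq : EtMil.IsFibreSquare B' B A' A) [CommRing C] [Algebra R C]
    {P PB PA : Type u} [CommRing P] [CommRing PB] [CommRing PA]
    (e : C ⊗[R] B' →+* P) (he : Function.Surjective e)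
    (eB : C ⊗[R] B →+* PB) (heB : Function.Injective eB)
    (eA : C ⊗[R] A' →+* PA) (heA : Function.Injective eA)
    (mB : P →+* PB) (mA : P →+* PA)
    (hB1 : ∀ c, mB (e (c ⊗ₜ 1)) = eB (c ⊗ₜ 1)) (hB2 : ∀ b, mB (e (1 ⊗ₜ b)) = eB (1 ⊗ₜ algebraMap B' B b))
    (hA1 : ∀ c, mA (e (c ⊗ₜ 1)) = eA (c ⊗ₜ 1)) (hA2 : ∀ b, mA (e (1 ⊗ₜ b)) = eA (1 ⊗ₜ algebraMap B' A' b))
    (y : P) (h1 : mB y = 0) (h2 : mA y = 0) : y = 0 := by
  obtain ⟨x, rfl⟩ := he y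
  let fB := (IsScalarTower.toAlgHom R B' B).toLinearMap
  let fA := (IsScalarTower.toAlgHom R B' A').toLinearMap
  have kB : ∀ z, mB (e z) = eB (fB.lTensor C z) := fun z => by
    induction z with
    | zero => simp
    | add a b ha hb => simp only [map_add, ha, hb]
    | tmul c b =>
      rw [show c ⊗ₜ[R] b = (c ⊗ₜ 1) * (1 ⊗ₜ b) by simp, map_mul, map_mul, hB1, hB2, ← map_mul]
      simp [fB]
  have kA : ∀ z, mA (e z) = eA (fA.lTensor C z) := fun z => by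
    induction z with
    | zero => simp
    | add a b ha hb => simp only [map_add, ha, hb]
    | tmul c b =>
      rw [show c ⊗ₜ[R] b = (c ⊗ₜ 1) * (1 ⊗ₜ b) by simp, map_mul, map_mul, hA1, hA2, ← map_mul]
      simp [fA]
  have z1 : fB.lTensor C x = 0 := heB (by rw [← kB, h1, map_zero])
  have z2 : fA.lTensor C x = 0 := heA (by rw [← kA, h2, map_zero])
  have hinj := LinearMap.lTensor_injective_of_exact_of_flat (Groth.Agent.Milnor.diffMap R B A' A)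
    (Groth.Agent.Milnor.diffMap_surjective hsq) _ (Groth.Agent.Milnor.pairMap_injective hsq)
    (Groth.Agent.Milnor.exact_pairMap hsq) C
  suffices hx : x = 0 by rw [hx, map_zero]
  apply hinj
  rw [map_zero]
  apply (TensorProduct.prodRight R R C B A').injective
  have key : ∀ z, TensorProduct.prodRight R R C B A' ((Groth.Agent.Milnor.pairMap R B' B A').lTensor C z) =
      (fB.lTensor C z, fA.lTensor C z) := fun z => by
    induction z with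
    | zero => simp only [map_zero]; rfl
    | add a b ha hb => simp only [map_add, ha, hb, Prod.mk_add_mk]
    | tmul c b => simp [Groth.Agent.Milnor.pairMap, fB, fA]
  rw [key, z1, z2, map_zero]; rfl

/-- The comparison map out of the tensor product for a pushout square of rings. -/
theorem exists_tensor_map {R A C P : CommRingCat.{u}} {f : R ⟶ A} {g : R ⟶ C} {i : A ⟶ P} {j : C ⟶ P}
    (h : IsPushout f g i j) [Algebra R A] [Algebra R C] (hf : f.hom = algebraMap R A) (hg : g.hom = algebraMap R C) :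
    ∃ e : C ⊗[R] A →+* P, Function.Bijective e ∧ (∀ c, e (c ⊗ₜ 1) = j c) ∧ ∀ a, e (1 ⊗ₜ a) = i a := by
  have hf' : f = CommRingCat.ofHom (algebraMap R A) := by rw [← hf]; rfl
  have hg' : g = CommRingCat.ofHom (algebraMap R C) := by rw [← hg]; rfl
  subst hf' hg'
  let e := (CommRingCat.isPushout_tensorProduct R C A).isoIsPushout _ _ h.flip
  refine ⟨e.hom.hom, e.commRingCatIsoToRingEquiv.bijective, fun c => ?_, fun a => ?_⟩
  · exact congrArg (fun m => m c) (IsPushout.inl_isoIsPushout_hom _ _ (CommRingCat.isPushout_tensorProduct R C A) h.flip)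
  · exact congrArg (fun m => m a) (IsPushout.inr_isoIsPushout_hom _ _ (CommRingCat.isPushout_tensorProduct R C A) h.flip)

end Algebra

theorem exists_tensor_map_affine {X Y S T : Scheme.{u}} {f : T ⟶ S} {g : Y ⟶ X} {iX : X ⟶ S} {iY : Y ⟶ T}
    (H : IsPullback g iY iX f) {US : S.Opens} {UT : T.Opens} {UX : X.Opens}
    (hUS : IsAffineOpen US) (hUT : IsAffineOpen UT) (hUX : IsAffineOpen UX)
    (eT : UT ≤ f ⁻¹ᵁ US) (eX : UX ≤ iX ⁻¹ᵁ US) {UY : Y.Opens} (hUY : UY = g ⁻¹ᵁ UX ⊓ iY ⁻¹ᵁ UT)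
    [Algebra Γ(S, US) Γ(X, UX)] [Algebra Γ(S, US) Γ(T, UT)]
    (hX : algebraMap Γ(S, US) Γ(X, UX) = (iX.appLE US UX eX).hom)
    (hT : algebraMap Γ(S, US) Γ(T, UT) = (f.appLE US UT eT).hom) :
    ∃ e : Γ(T, UT) ⊗[Γ(S, US)] Γ(X, UX) →+* Γ(Y, UY), Function.Bijective e ∧
      (∀ c, e (c ⊗ₜ 1) = iY.appLE UT UY (hUY.le.trans inf_le_right) c) ∧
      ∀ a, e (1 ⊗ₜ a) = g.appLE UX UY (hUY.le.trans inf_le_left) a := by
  have := isIso_pushoutSection_of_isAffineOpen H eT eX hUY hUS hUT hUX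
  exact exists_tensor_map ((isIso_pushoutSection_iff H eT eX hUY).mp this) hX.symm hT.symm

theorem appLE_injective_of_flat_surjective {X Y : Scheme.{u}} (f : X ⟶ Y) [Flat f] [Surjective f] (U : Y.Opens)
    (y : Γ(Y, U)) (hy : f.app U y = 0) : y = 0 := by
  refine Y.IsSheaf.section_ext fun p hp => ?_
  obtain ⟨x, rfl⟩ := f.surjective p
  have hinj : Function.Injective (f.stalkMap x) := by
    algebraize [(f.stalkMap x).hom]
    have : Module.FaithfullyFlat (Y.presheaf.stalk (f x)) (X.presheaf.stalk x) :=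
      @Module.FaithfullyFlat.of_flat_of_isLocalHom _ _ _ _ _ _ _
        (Flat.stalkMap f x) (f.toLRSHom.prop x)
    exact ‹RingHom.FaithfullyFlat _›.injective
  have h0 : Y.presheaf.germ U (f x) hp y = Y.presheaf.germ U (f x) hp 0 := by
    apply hinj
    rw [map_zero, map_zero]
    exact (f.germ_stalkMap_apply U x hp y).trans (by rw [hy, map_zero])
  obtain ⟨W, hW, i₁, i₂, hW'⟩ := Y.presheaf.germ_eq (f x) hp hp y 0 h0
  exact ⟨W, i₁.le, hW, by rw [show (homOfLE i₁.le) = i₁ from Subsingleton.elim _ _, hW', Subsingleton.elim i₁ i₂]⟩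

set_option maxHeartbeats 1000000 in
/-- Over the preimage of an open of `T`, a section of the base change of the pinching is detected
after pulling back to the two pieces. -/
theorem section_eq_zero {S X Z Z' X' T : Scheme.{u}}
    (fX : X ⟶ S) (fZ' : Z' ⟶ S) (fX' : X' ⟶ S) (ι : Z ⟶ X) (q : Z ⟶ Z') (π : X ⟶ X') (ι' : Z' ⟶ X')
    [IsClosedImmersion ι] [IsClosedImmersion ι'] [IsAffineHom q] [IsAffineHom π]
    (hπ : π ≫ fX' = fX) (hι' : ι' ≫ fX' = fZ')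
    (hpo : IsPushout ((Scheme.forgetToLocallyRingedSpace ⋙ LocallyRingedSpace.forgetToSheafedSpace).map ι) ((Scheme.forgetToLocallyRingedSpace ⋙ LocallyRingedSpace.forgetToSheafedSpace).map q)
      ((Scheme.forgetToLocallyRingedSpace ⋙ LocallyRingedSpace.forgetToSheafedSpace).map π) ((Scheme.forgetToLocallyRingedSpace ⋙ LocallyRingedSpace.forgetToSheafedSpace).map ι'))
    (hw : ι ≫ π = q ≫ ι') [Flat (ι ≫ fX)] (g : T ⟶ S) (O : T.Opens)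
    (πT : pullback fX g ⟶ pullback fX' g) (ιT : pullback fZ' g ⟶ pullback fX' g)
    (hπ₁ : πT ≫ pullback.fst fX' g = pullback.fst fX g ≫ π) (hπ₂ : πT ≫ pullback.snd fX' g = pullback.snd fX g)
    (hι₁ : ιT ≫ pullback.fst fX' g = pullback.fst fZ' g ≫ ι') (hι₂ : ιT ≫ pullback.snd fX' g = pullback.snd fZ' g)
    (y : Γ(pullback fX' g, pullback.snd fX' g ⁻¹ᵁ O)) (h1 : πT.app _ y = 0) (h2 : ιT.app _ y = 0) : y = 0 := by
  refine (pullback fX' g).IsSheaf.section_ext fun x hx => ?_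
  obtain ⟨_, ⟨V0, hV, rfl⟩, hxV, -⟩ := S.isBasis_affineOpens.exists_subset_of_mem_open
    (Set.mem_univ ((pullback.fst fX' g ≫ fX').base x)) isOpen_univ
  obtain ⟨_, ⟨U0, hU, rfl⟩, hxU, hUV⟩ := X'.isBasis_affineOpens.exists_subset_of_mem_open
    (show (pullback.fst fX' g).base x ∈ ((fX' ⁻¹ᵁ V0 : X'.Opens) : Set X') from hxV) (fX' ⁻¹ᵁ V0).2
  obtain ⟨_, ⟨W, hW, rfl⟩, hxW, hWO⟩ := T.isBasis_affineOpens.exists_subset_of_mem_open
    (show (pullback.snd fX' g).base x ∈ ((O ⊓ g ⁻¹ᵁ V0 : T.Opens) : Set T) from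
      ⟨hx, by
        change g.base _ ∈ V0
        rw [← Scheme.Hom.comp_apply, ← pullback.condition]
        exact hxV⟩) (O ⊓ g ⁻¹ᵁ V0).2
  let V : S.affineOpens := ⟨V0, hV⟩
  let U : X'.affineOpens := ⟨U0, hU⟩
  have e : U.1 ≤ fX' ⁻¹ᵁ V.1 := hUV
  have eT : W ≤ g ⁻¹ᵁ V.1 := fun z hz => (hWO hz).2
  have hπU : IsAffineOpen (π ⁻¹ᵁ U.1) := U.2.preimage π
  have hι'U : IsAffineOpen (ι' ⁻¹ᵁ U.1) := U.2.preimage ι'
  have hqU : IsAffineOpen (q ⁻¹ᵁ ι' ⁻¹ᵁ U.1) := hι'U.preimage q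
  have eW : q ⁻¹ᵁ ι' ⁻¹ᵁ U.1 = ι ⁻¹ᵁ π ⁻¹ᵁ U.1 := by
    rw [← Scheme.Hom.comp_preimage, ← Scheme.Hom.comp_preimage, hw]
  let α : Γ(X', U.1) ⟶ Γ(X, π ⁻¹ᵁ U.1) := π.appLE U.1 _ le_rfl
  let β : Γ(X', U.1) ⟶ Γ(Z', ι' ⁻¹ᵁ U.1) := ι'.appLE U.1 _ le_rfl
  let a : Γ(X, π ⁻¹ᵁ U.1) ⟶ Γ(Z, q ⁻¹ᵁ ι' ⁻¹ᵁ U.1) := ι.appLE _ _ eW.le
  let c : Γ(Z', ι' ⁻¹ᵁ U.1) ⟶ Γ(Z, q ⁻¹ᵁ ι' ⁻¹ᵁ U.1) := q.appLE _ _ le_rfl
  let r : Γ(S, V.1) ⟶ Γ(X', U.1) := fX'.appLE V.1 U.1 e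
  have hac : α ≫ a = β ≫ c := by
    simp only [α, β, a, c, Scheme.Hom.appLE_comp_appLE, hw]
  algebraize [r.hom, α.hom, β.hom, a.hom, c.hom, (α ≫ a).hom, (r ≫ α).hom, (r ≫ β).hom, (r ≫ α ≫ a).hom]
  have h₁ : IsScalarTower Γ(X', U.1) Γ(Z', ι' ⁻¹ᵁ U.1) Γ(Z, q ⁻¹ᵁ ι' ⁻¹ᵁ U.1) :=
    .of_algebraMap_eq' (congrArg CommRingCat.Hom.hom hac)
  have h₀ : IsScalarTower Γ(X', U.1) Γ(X, π ⁻¹ᵁ U.1) Γ(Z, q ⁻¹ᵁ ι' ⁻¹ᵁ U.1) :=
    .of_algebraMap_eq' rfl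
  have h₂ : IsScalarTower Γ(S, V.1) Γ(Z', ι' ⁻¹ᵁ U.1) Γ(Z, q ⁻¹ᵁ ι' ⁻¹ᵁ U.1) :=
    .of_algebraMap_eq' (congrArg CommRingCat.Hom.hom (show r ≫ α ≫ a = (r ≫ β) ≫ c by rw [hac, Category.assoc]))
  have hsq : EtMil.IsFibreSquare Γ(X', U.1) Γ(Z', ι' ⁻¹ᵁ U.1) Γ(X, π ⁻¹ᵁ U.1) Γ(Z, q ⁻¹ᵁ ι' ⁻¹ᵁ U.1) := by
    have ha : a = ι.app _ ≫ Z.presheaf.map (eqToHom (congrArg Opposite.op eW.symm)) :=
      rfl
    refine ⟨fun z => ?_, fun x y hxy => ?_⟩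
    · obtain ⟨x, hx⟩ := ι.app_surjective _ hπU
        (Z.presheaf.map (eqToHom (congrArg Opposite.op eW)) z)
      refine ⟨x, ?_⟩
      change Z.presheaf.map (eqToHom (congrArg Opposite.op eW.symm)) (ι.app _ x) = z
      rw [hx, ← CommRingCat.comp_apply, ← Functor.map_comp, eqToHom_trans, eqToHom_refl, Z.presheaf.map_id]
      rfl
    · have hα : α = π.app U.1 := Scheme.Hom.appLE_eq_app _
      have hβ : β = ι'.app U.1 := Scheme.Hom.appLE_eq_app _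
      have hc : c = q.app _ := Scheme.Hom.appLE_eq_app _
      obtain ⟨w, ⟨h1, h2⟩, huniq⟩ := existsUnique_section_scheme hpo hw U.1 y x (by
        have h3 : c x = a y := hxy
        rw [hc, ha] at h3
        exact h3.symm)
      refine ⟨w, ⟨?_, ?_⟩, fun w' hw' => huniq w' ⟨?_, ?_⟩⟩
      · change β w = x; rw [hβ]; exact h2
      · change α w = y; rw [hα]; exact h1
      · rw [← hα]; exact hw'.2
      · rw [← hβ]; exact hw'.1
  have : Module.Flat Γ(S, V.1) Γ(Z, q ⁻¹ᵁ ι' ⁻¹ᵁ U.1) := by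
    have e' : q ⁻¹ᵁ ι' ⁻¹ᵁ U.1 ≤ (ι ≫ fX) ⁻¹ᵁ V.1 := by
      rw [eW, Scheme.Hom.comp_preimage]
      refine Scheme.Hom.preimage_mono ι ?_
      rw [← hπ, Scheme.Hom.comp_preimage]
      exact Scheme.Hom.preimage_mono π e
    have key : r ≫ α ≫ a = (ι ≫ fX).appLE V.1 _ e' := by
      simp only [r, α, a, Scheme.Hom.appLE_comp_appLE, Category.assoc, hπ]
    have := (ι ≫ fX).flat_appLE V.2 hqU e'
    rw [← key] at this
    exact this
  have h₃ : IsScalarTower Γ(S, V.1) Γ(X', U.1) Γ(Z', ι' ⁻¹ᵁ U.1) := .of_algebraMap_eq' rfl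
  have h₄ : IsScalarTower Γ(S, V.1) Γ(X', U.1) Γ(X, π ⁻¹ᵁ U.1) := .of_algebraMap_eq' rfl
  have h₅ : IsScalarTower Γ(S, V.1) Γ(X, π ⁻¹ᵁ U.1) Γ(Z, q ⁻¹ᵁ ι' ⁻¹ᵁ U.1) := .of_algebraMap_eq' rfl
  let : Algebra Γ(S, V.1) Γ(T, W) := (g.appLE V.1 W eT).hom.toAlgebra
  let O' : (pullback fX' g).Opens := pullback.fst fX' g ⁻¹ᵁ U.1 ⊓ pullback.snd fX' g ⁻¹ᵁ W
  have hO' : O' ≤ pullback.snd fX' g ⁻¹ᵁ O := fun z hz => (hWO hz.2).1
  let OX : (pullback fX g).Opens := pullback.fst fX g ⁻¹ᵁ (π ⁻¹ᵁ U.1) ⊓ pullback.snd fX g ⁻¹ᵁ W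
  let OZ : (pullback fZ' g).Opens := pullback.fst fZ' g ⁻¹ᵁ (ι' ⁻¹ᵁ U.1) ⊓ pullback.snd fZ' g ⁻¹ᵁ W
  have hOX : OX = πT ⁻¹ᵁ O' := by
    rw [show πT ⁻¹ᵁ O' = (πT ≫ pullback.fst fX' g) ⁻¹ᵁ U.1 ⊓ (πT ≫ pullback.snd fX' g) ⁻¹ᵁ W from rfl,
      hπ₁, hπ₂]
    rfl
  have hOZ : OZ = ιT ⁻¹ᵁ O' := by
    rw [show ιT ⁻¹ᵁ O' = (ιT ≫ pullback.fst fX' g) ⁻¹ᵁ U.1 ⊓ (ιT ≫ pullback.snd fX' g) ⁻¹ᵁ W from rfl,
      hι₁, hι₂]
    rfl
  have eXV : π ⁻¹ᵁ U.1 ≤ fX ⁻¹ᵁ V.1 := by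
    rw [← hπ, Scheme.Hom.comp_preimage]; exact Scheme.Hom.preimage_mono π e
  have eZV : ι' ⁻¹ᵁ U.1 ≤ fZ' ⁻¹ᵁ V.1 := by
    rw [← hι', Scheme.Hom.comp_preimage]; exact Scheme.Hom.preimage_mono ι' e
  obtain ⟨E, hE, hE₁, hE₂⟩ := exists_tensor_map_affine (IsPullback.of_hasPullback fX' g) V.2 hW U.2 eT e
    (UY := O') rfl rfl rfl
  obtain ⟨EX, hEX, hEX₁, hEX₂⟩ := exists_tensor_map_affine (IsPullback.of_hasPullback fX g) V.2 hW hπU eT eXV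
    (UY := OX) rfl (show (r ≫ α).hom = _ by simp only [r, α, Scheme.Hom.appLE_comp_appLE, hπ]) rfl
  obtain ⟨EZ, hEZ, hEZ₁, hEZ₂⟩ := exists_tensor_map_affine (IsPullback.of_hasPullback fZ' g) V.2 hW hι'U eT eZV
    (UY := OZ) rfl (show (r ≫ β).hom = _ by simp only [r, β, Scheme.Hom.appLE_comp_appLE, hι']) rfl
  refine ⟨O', hO', ⟨hxU, hxW⟩, ?_⟩
  rw [map_zero]
  refine eq_zero_of_pushouts hsq E hE.2 EZ hEZ.1 EX hEX.1
    (ιT.appLE O' OZ hOZ.le).hom (πT.appLE O' OX hOX.le).hom ?_ ?_ ?_ ?_ _ ?_ ?_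
  · intro c
    rw [hE₁, hEZ₁, ← CommRingCat.comp_apply, Scheme.Hom.appLE_comp_appLE]
    simp only [hι₂]
  · intro b
    rw [hE₂, hEZ₂]
    change _ = (pullback.fst fZ' g).appLE _ _ _ (β b)
    simp only [β, ← CommRingCat.comp_apply, Scheme.Hom.appLE_comp_appLE, hι₁]
  · intro c
    rw [hE₁, hEX₁, ← CommRingCat.comp_apply, Scheme.Hom.appLE_comp_appLE]
    simp only [hπ₂]
  · intro b
    rw [hE₂, hEX₂]
    change _ = (pullback.fst fX g).appLE _ _ _ (α b)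
    simp only [α, ← CommRingCat.comp_apply, Scheme.Hom.appLE_comp_appLE, hπ₁]
  · rw [← CommRingCat.comp_apply, Scheme.Hom.map_appLE,
      ← Scheme.Hom.appLE_map ιT (e := le_rfl) (i := (homOfLE (hOZ.le.trans (Scheme.Hom.preimage_mono ιT hO'))).op),
      CommRingCat.comp_apply, Scheme.Hom.appLE_eq_app, h2, map_zero]
  · rw [← CommRingCat.comp_apply, Scheme.Hom.map_appLE,
      ← Scheme.Hom.appLE_map πT (e := le_rfl) (i := (homOfLE (hOX.le.trans (Scheme.Hom.preimage_mono πT hO'))).op),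
      CommRingCat.comp_apply, Scheme.Hom.appLE_eq_app, h1, map_zero]

end GrothLib.RingedPush4
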